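import Cfsg.Agent.H893.SR.TriD4U
import Cfsg.Agent.ChevalleyStructure.D4NConj

/-!
# `³D₄(q)`, `q` even: the commutator of `B` and `C` (helper81)

* `BC` : `B b * C c = C c * B b * D (b φc + φb c) * E (tr (b φb φφc)) * Z (tr (b φc φφc))`.
-/

set_option autoImplicit false

namespace Cfsg.Agent.H81.TD

open Cfsg.Lie
open Cfsg.Agent.H893.SR.Tri
open Cfsg.Agent.ChevalleyStructure
open Cfsg.Agent.ChevalleyStructure.D4Comm
open Cfsg.Agent.ChevalleyStructure.WordCheck (wordMat_eq_of_check wval PExpr xw)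

/-- the left-hand side; variables `b, φ b, φφ b, c, φ c, φφ c` -/
def bcL : List (ℕ × PExpr) := [(18, .var 0), (13, .var 1), (12, .var 2), (19, .var 3), (16, .var 4), (15, .var 5)]

/-- the right-hand side -/
def bcR : List (ℕ × PExpr) := [(19, .var 3), (16, .var 4), (15, .var 5), (18, .var 0), (13, .var 1), (12, .var 2),
  (21, .add (.mul (.var 0) (.var 4)) (.mul (.var 1) (.var 3))),
  (17, .add (.mul (.var 1) (.var 5)) (.mul (.var 2) (.var 4))),
  (20, .add (.mul (.var 2) (.var 3)) (.mul (.var 0) (.var 5))),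
  (22, .add (.add (.mul (.mul (.var 0) (.var 1)) (.var 5)) (.mul (.mul (.var 1) (.var 2)) (.var 3)))
    (.mul (.mul (.var 2) (.var 0)) (.var 4))),
  (23, .add (.add (.mul (.mul (.var 0) (.var 4)) (.var 5)) (.mul (.mul (.var 1) (.var 5)) (.var 3)))
    (.mul (.mul (.var 2) (.var 3)) (.var 4)))]

theorem bcB : WordCheck.check chevD4 2 0 6 (xw bcL) (xw bcR) = true := by decide +kernel

variable {K : Type*} [Field K] {φ : K →+* K}

/-- the values -/
def bcV (φ : K →+* K) (b c : K) : ℕ → K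
  | 0 => b
  | 1 => φ b
  | 2 => φ (φ b)
  | 3 => c
  | 4 => φ c
  | _ => φ (φ c)

/-- `B` and `C` -/
theorem BC (h2 : ∀ x : K, x + x = 0) (hK3 : ∀ t : K, φ (φ (φ t)) = t) (b c : K) :
    B φ b * C φ c = C φ c * B φ b * D φ (b * φ c + φ b * c) * E (tr φ (b * φ b * φ (φ c))) *
      Z (tr φ (b * φ c * φ (φ c))) := by
  have hch : ((2 : ℕ) : K) = 0 := by
    have := h2 1
    rw [Nat.cast_two, ← one_add_one_eq_two, this]
  have h : D4NConj.wordG (wval (bcV φ b c) bcL) = D4NConj.wordG (wval (bcV φ b c) bcR) := by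
    apply Units.ext
    rw [D4NConj.coe_wordG, D4NConj.coe_wordG]
    exact wordMat_eq_of_check chevD4 _ 2 0 6 _ _ bcB hch (by simp)
  simp only [D4NConj.wordG, wval, PExpr.denote, bcL, bcR, bcV, List.map_cons, List.map_nil, List.prod_cons,
    List.prod_nil, mul_one] at h
  unfold B C D E Z tr
  simp only [map_add, map_mul, hK3, mul_assoc] at h ⊢
  exact h

end Cfsg.Agent.H81.TD
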